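import Groth.Agent.Lib.ProjQ8.Ops
import Groth.Agent.Lib.ProjAlg.Proper
import Groth.Agent.Lib.ProjAlg.Projective
import Groth.Agent.Lib.Chow.Projective
import Groth.Agent.Lib.ProjSp.Segre
import Groth.Agent.Lib.Ample.QuasiProj
import Groth.Agent.Lib.Ample.ProjSpace
import Groth.Agent.Lib.AmpleDesc.Rel
import Groth.Agent.Lib.RelProjK.Amp
import Groth.Agent.Lib.VA.Crit

/-!
# H-projective and H-quasi-projective morphisms: base change, composition, locality
-/

set_option autoImplicit false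
set_option linter.style.haveILetI false
universe u

open CategoryTheory CategoryTheory.Limits AlgebraicGeometry Opposite TopologicalSpace

noncomputable section

namespace GrothLib.ProjQ9

variable {X Y Z S S' : Scheme.{u}}

/-- The map of projective spaces over a morphism of bases. -/
def mapBase (n : ℕ) (g : S' ⟶ S) : CohB1.ProjSpaceOver n S' ⟶ CohB1.ProjSpaceOver n S :=
  pullback.lift (pullback.fst _ _) (CohB1.ProjSpaceOver.toBase n S' ≫ g) (specULiftZIsTerminal.hom_ext _ _)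

theorem isPullback_mapBase (n : ℕ) (g : S' ⟶ S) :
    IsPullback (mapBase n g) (CohB1.ProjSpaceOver.toBase n S') (CohB1.ProjSpaceOver.toBase n S) g := by
  refine IsPullback.of_right ?_ (pullback.lift_snd _ _ _) (IsPullback.of_hasPullback _ _)
  have e1 : mapBase n g ≫ pullback.fst (CohB1.ProjSpace.toSpec n (ULift.{u, 0} ℤ)) (specULiftZIsTerminal.from S) =
      pullback.fst (CohB1.ProjSpace.toSpec n (ULift.{u, 0} ℤ)) (specULiftZIsTerminal.from S') :=
    pullback.lift_fst _ _ _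
  rw [specULiftZIsTerminal.hom_ext (g ≫ specULiftZIsTerminal.from S) (specULiftZIsTerminal.from S')]
  have h0 : IsPullback (pullback.fst (CohB1.ProjSpace.toSpec n (ULift.{u, 0} ℤ)) (specULiftZIsTerminal.from S'))
      (CohB1.ProjSpaceOver.toBase n S') (CohB1.ProjSpace.toSpec n (ULift.{u, 0} ℤ)) (specULiftZIsTerminal.from S') :=
    IsPullback.of_hasPullback _ _
  exact e1.symm ▸ h0

variable {f : X ⟶ S} {X' : Scheme.{u}} {f' : X' ⟶ S'} {g : S' ⟶ S} {g' : X' ⟶ X}

theorem exists_lift_of_isPullback (h : IsPullback g' f' f g) {n : ℕ} (i : X ⟶ CohB1.ProjSpaceOver n S)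
    (hif : i ≫ CohB1.ProjSpaceOver.toBase n S = f) :
    ∃ i' : X' ⟶ CohB1.ProjSpaceOver n S', i' ≫ CohB1.ProjSpaceOver.toBase n S' = f' ∧
      IsPullback g' i' i (mapBase n g) := by
  have hq := isPullback_mapBase n g
  have w : (g' ≫ i) ≫ CohB1.ProjSpaceOver.toBase n S = f' ≫ g := by rw [Category.assoc, hif, h.w]
  refine ⟨hq.lift (g' ≫ i) f' w, hq.lift_snd _ _ w,
    IsPullback.of_bot ?_ (hq.lift_fst _ _ w).symm hq⟩
  rw [hq.lift_snd, hif]
  exact h

theorem isHProjective_of_isPullback (h : IsPullback g' f' f g) (hf : RelProj.IsHProjective f) :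
    RelProj.IsHProjective f' := by
  obtain ⟨n, i, hi, hif⟩ := hf
  obtain ⟨i', hi', sq⟩ := exists_lift_of_isPullback h i hif
  exact ⟨n, i', MorphismProperty.of_isPullback (P := @IsClosedImmersion) sq hi, hi'⟩

theorem isHQuasiProjective_of_isPullback (h : IsPullback g' f' f g) (hf : RelProj.IsHQuasiProjective f) :
    RelProj.IsHQuasiProjective f' := by
  obtain ⟨n, i, hi, hqc, hif⟩ := hf
  obtain ⟨i', hi', sq⟩ := exists_lift_of_isPullback h i hif
  exact ⟨n, i', MorphismProperty.of_isPullback (P := @IsImmersion) sq hi,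
    MorphismProperty.of_isPullback (P := @QuasiCompact) sq hqc, hi'⟩

theorem isHProjective_comp (f : X ⟶ Y) (g : Y ⟶ Z) (hf : RelProj.IsHProjective f)
    (hg : RelProj.IsHProjective g) : RelProj.IsHProjective (f ≫ g) := by
  obtain ⟨n, i, hi, hif⟩ := hf
  obtain ⟨m, j, hj, hjg⟩ := hg
  haveI := hi
  obtain ⟨σ, hσ, hσb⟩ := ProjSpSegre.exists_segre (n := n) (m := m) Z
  haveI := hσ
  have hq := isPullback_mapBase n g
  let π := pullback.snd (CohB1.ProjSpaceOver.toBase n Z) (CohB1.ProjSpaceOver.toBase m Z)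
  have w : mapBase n g ≫ CohB1.ProjSpaceOver.toBase n Z =
      (CohB1.ProjSpaceOver.toBase n Y ≫ j) ≫ CohB1.ProjSpaceOver.toBase m Z := by
    rw [Category.assoc, hjg, hq.w]
  let l : CohB1.ProjSpaceOver n Y ⟶ pullback (CohB1.ProjSpaceOver.toBase n Z) (CohB1.ProjSpaceOver.toBase m Z) :=
    pullback.lift (mapBase n g) (CohB1.ProjSpaceOver.toBase n Y ≫ j) w
  have sq : IsPullback l (CohB1.ProjSpaceOver.toBase n Y) π j := by
    refine IsPullback.of_right ?_ (pullback.lift_snd _ _ _)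
      (IsPullback.of_hasPullback (CohB1.ProjSpaceOver.toBase n Z) (CohB1.ProjSpaceOver.toBase m Z))
    rw [pullback.lift_fst, hjg]
    exact hq
  haveI : IsClosedImmersion l := MorphismProperty.of_isPullback (P := @IsClosedImmersion) sq.flip hj
  refine ⟨_, i ≫ l ≫ σ, inferInstance, ?_⟩
  rw [Category.assoc, Category.assoc, hσb, ← Category.assoc l, pullback.lift_fst, hq.w, ← Category.assoc, hif]

theorem isHQuasiProjective_of_isHProjective {f : X ⟶ S} (hf : RelProj.IsHProjective f) :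
    RelProj.IsHQuasiProjective f ∧ IsProper f := by
  obtain ⟨n, i, hi, hif⟩ := hf
  haveI := hi
  haveI := Chow.isProper_toBase n S
  exact ⟨⟨n, i, inferInstance, inferInstance, hif⟩, hif ▸ inferInstance⟩

theorem isQuasiProjective_of_isProjective {f : X ⟶ S} (hf : RelProj.IsProjective f) :
    RelProj.IsQuasiProjective f := by
  haveI := ProjAlg.isProper_of_isProjective hf
  obtain ⟨E, L, φ, hE, -, -, hp⟩ := VA.exists_pieces_of_isProjective hf
  exact ⟨inferInstance, inferInstance, L,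
    RelProjK.isRelAmple_of_isRelVeryAmple f L (VA.isRelVeryAmple_iff.mpr ⟨E, φ, hE, hp⟩)⟩

theorem isHQuasiProjective_of_isAffine [IsAffine S] {f : X ⟶ S} (hf : RelProj.IsQuasiProjective f) :
    RelProj.IsHQuasiProjective f := by
  obtain ⟨h1, h2, L, hL⟩ := hf
  haveI := h1; haveI := h2
  obtain ⟨n, i, hi, hif⟩ := Ample.exists_immersion_of_isAmple f (Ample.isAmple_of_isRelAmple_top hL)
  exact ⟨n, i, hi, Ample.quasiCompact_of_immersion f i hif, hif⟩

theorem isQuasiProjective_of_isHQuasiProjective {f : X ⟶ S} (hf : RelProj.IsHQuasiProjective f) :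
    RelProj.IsQuasiProjective f := by
  obtain ⟨n, i, hi, hqc, hif⟩ := hf
  haveI := hi; haveI := hqc
  obtain ⟨h1, h2⟩ := Ample.locallyOfFiniteType_and_quasiCompact_of_immersion f i hif
  haveI := h1; haveI := h2
  exact Ample.isQuasiProjective_of_isImmersion f i hif

theorem isHProjective_of_isAffine [IsAffine S] {f : X ⟶ S} (hf : RelProj.IsProjective f) :
    RelProj.IsHProjective f := by
  haveI := ProjAlg.isProper_of_isProjective hf
  obtain ⟨n, i, hi, -, hif⟩ := isHQuasiProjective_of_isAffine (isQuasiProjective_of_isProjective hf)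
  haveI := hi
  exact Chow.isHProjective_of_isProper f i hif

theorem isHProjective_of_isHQuasiProjective_of_isProper (f : X ⟶ S) [IsProper f]
    (hf : RelProj.IsHQuasiProjective f) : RelProj.IsHProjective f := by
  obtain ⟨n, i, hi, -, hif⟩ := hf
  haveI := hi
  exact Chow.isHProjective_of_isProper f i hif

/-- Restricting a restriction. -/
theorem exists_isPullback_morphismRestrict (f : X ⟶ S) (U : S.Opens) (V : (U : Scheme.{u}).Opens) :
    ∃ (a : ((f ⁻¹ᵁ (U.ι ''ᵁ V) : X.Opens) : Scheme.{u}) ⟶ (((f ∣_ U) ⁻¹ᵁ V : _) : Scheme.{u}))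
      (e : ((U.ι ''ᵁ V : S.Opens) : Scheme.{u}) ⟶ (V : Scheme.{u})),
      IsPullback a (f ∣_ (U.ι ''ᵁ V)) (f ∣_ U ∣_ V) e := by
  let W := U.ι ''ᵁ V
  let e : (W : Scheme.{u}) ≅ (V : Scheme.{u}) := (U.ι.isoImage V).symm
  have he : e.hom ≫ V.ι ≫ U.ι = W.ι := U.ι.isoImage_inv_ι V
  have big : IsPullback (((f ∣_ U) ⁻¹ᵁ V).ι ≫ (f ⁻¹ᵁ U).ι) (f ∣_ U ∣_ V) f (V.ι ≫ U.ι) :=
    (isPullback_morphismRestrict (f ∣_ U) V).flip.paste_horiz (isPullback_morphismRestrict f U).flip
  have hW := (isPullback_morphismRestrict f W).flip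
  have w : (f ⁻¹ᵁ W).ι ≫ f = ((f ∣_ W) ≫ e.hom) ≫ V.ι ≫ U.ι := by rw [Category.assoc, he, hW.w]
  refine ⟨big.lift (f ⁻¹ᵁ W).ι ((f ∣_ W) ≫ e.hom) w, e.hom,
    IsPullback.of_right ?_ (big.lift_snd _ _ w) big⟩
  rw [big.lift_fst, he]
  exact hW

/-- Shrinking to affine opens. -/
theorem exists_affine_nhd (f : X ⟶ S) (U : S.Opens) (s : S) (hs : s ∈ U) :
    ∃ V : (U : Scheme.{u}).Opens, IsAffineOpen V ∧ s ∈ U.ι ''ᵁ V := by
  obtain ⟨V, hV, hsV, -⟩ := Opens.isBasis_iff_nbhd.1 (U : Scheme.{u}).isBasis_affineOpens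
    (Opens.mem_top (⟨s, hs⟩ : (U : Scheme.{u})))
  exact ⟨V, hV, ⟨⟨s, hs⟩, hsV, rfl⟩⟩

theorem locally_isHProjective {f : X ⟶ S} (hf : RelProj.IsLocallyProjective f) (s : S) :
    ∃ U : S.Opens, s ∈ U ∧ RelProj.IsHProjective (f ∣_ U) := by
  obtain ⟨U, hs, hU⟩ := hf s
  obtain ⟨V, hV, hsV⟩ := exists_affine_nhd f U s hs
  haveI : IsAffine (V : Scheme.{u}) := hV
  obtain ⟨a, e, sq⟩ := exists_isPullback_morphismRestrict f U V
  exact ⟨_, hsV, isHProjective_of_isPullback sq (isHProjective_of_isAffine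
    (VA.isProjective_of_isPullback (isPullback_morphismRestrict (f ∣_ U) V).flip hU))⟩

theorem isQuasiProjective_restrict {f : X ⟶ S} (hf : RelProj.IsQuasiProjective f) (V : S.Opens)
    (hV : IsAffineOpen V) : RelProj.IsQuasiProjective (f ∣_ V) := by
  obtain ⟨h1, h2, L, hL⟩ := hf
  haveI := h1; haveI := h2
  haveI : QuasiCompact (f ∣_ V) := IsZariskiLocalAtTarget.restrict h2 V
  haveI : LocallyOfFiniteType (f ∣_ V) := IsZariskiLocalAtTarget.restrict h1 V
  exact ⟨inferInstance, inferInstance, _, Ample.isRelAmple_of_isAmple (f ∣_ V) (hL.2 ⟨V, hV⟩)⟩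

theorem locally_isHQuasiProjective (f : X ⟶ S) {U : S.Opens} (hf : RelProj.IsQuasiProjective (f ∣_ U))
    (s : S) (hs : s ∈ U) : ∃ W : S.Opens, s ∈ W ∧ RelProj.IsHQuasiProjective (f ∣_ W) := by
  obtain ⟨V, hV, hsV⟩ := exists_affine_nhd f U s hs
  haveI : IsAffine (V : Scheme.{u}) := hV
  obtain ⟨a, e, sq⟩ := exists_isPullback_morphismRestrict f U V
  exact ⟨_, hsV, isHQuasiProjective_of_isPullback sq
    (isHQuasiProjective_of_isAffine (isQuasiProjective_restrict hf V hV))⟩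

end GrothLib.ProjQ9
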